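import Cfsg.Agent.H316.HT.Defs
import Cfsg.Prelude.Def_KGroupFacts
import Mathlib.RingTheory.RootsOfUnity.PrimitiveRoots

/-!
# S4933, part (O): `P ⊓ N` abelian, `P ≰ N`.  The interface (helper37)

* `IsP p x`     : `x` is a `p`-element;
* `AbSyl p S`   : the Sylow `p`-subgroups of `S` are abelian;
* `PInn p t`    : the automorphism `t` is a `p`-element modulo the inner automorphisms;
* `FD p r f S`  : a class function `F` of `S` (the "Brauer lift" of a module) with
    `lin`  : on a Sylow `p`-subgroup it is a sum of linear characters,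
    `frob` : `r ^ f` acts trivially;
* `FD.Auts`     : the automorphisms with `PInn` act on the values as powers `r ^ j`, their conjugates in the same way;
* `Test`        : `p ∣ f` implies `F (y ^ r ^ (f / p)) ≢ F y mod p` for a `p`-element `y`;
* `ED p r f S K`: the multisets of eigenvalues in `K` (a module of `S` or of a `p'`-covering of `S`);
* `EY`          : the element `y` with its eigenvalues (the input of Lemma B).
-/

set_option autoImplicit false

open Subgroup

namespace Cfsg.Agent.H37.HT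

open Cfsg

universe u v

/-- `x` is a `p`-element -/
def IsP (p : ℕ) {S : Type u} [Group S] (x : S) : Prop := ∃ k : ℕ, x ^ p ^ k = 1

/-- the Sylow `p`-subgroups of `S` are abelian -/
def AbSyl (p : ℕ) (S : Type u) [Group S] : Prop :=
  ∀ P : Sylow p S, ∀ x ∈ (P : Subgroup S), ∀ y ∈ (P : Subgroup S), x * y = y * x

/-- a `p`-element modulo the inner automorphisms -/
def PInn (p : ℕ) {S : Type u} [Group S] (t : MulAut S) : Prop := ∃ k : ℕ, t ^ p ^ k ∈ Inn S

/-- `a ≡ b mod p`, algebraic integers -/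
def Cong (p : ℕ) (a b : ℂ) : Prop := ∃ z : ℂ, IsIntegral ℤ z ∧ a - b = p * z

/-- a fusion invariant generalized character -/
structure FD (p r f : ℕ) (S : Type u) [Group S] where
  /-- the function -/
  F : S → ℂ
  conj : ∀ g x : S, F (g * x * g⁻¹) = F x
  lin : ∀ P : Sylow p S, ∃ (n : ℕ) (l : Fin n → ((P : Subgroup S) →* ℂˣ)),
    ∀ x : (P : Subgroup S), F x = ∑ i, (l i x : ℂ)
  frob : ∀ x : S, IsP p x → F (x ^ r ^ f) = F x

/-- the action of the automorphisms -/
def FD.Auts {p r f : ℕ} {S : Type u} [Group S] (D : FD p r f S) : Prop :=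
  (∀ t : MulAut S, PInn p t → ∃ j : ℕ, ∀ x : S, IsP p x → D.F (t x) = D.F (x ^ r ^ j)) ∧
  (∀ g t : MulAut S, PInn p t → ∀ x : S, IsP p x → D.F (g (t (g⁻¹ x))) = D.F (t x)) ∧
  ∀ t : MulAut S, PInn p t → (∀ x : S, IsP p x → D.F (t x) = D.F x) → t ∈ Inn S

/-- the test: the automorphism of order `p` moves a value modulo `p` -/
def Test {p r f : ℕ} {S : Type u} [Group S] (D : FD p r f S) : Prop :=
  p ∣ f → ∃ y : S, IsP p y ∧ ¬ Cong p (D.F (y ^ r ^ (f / p))) (D.F y)

/-- eigenvalues of the `p`-elements in a module over `K` (characteristic `r`) -/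
structure ED (p r f : ℕ) (S : Type u) [Group S] (K : Type v) [Field K] where
  /-- the eigenvalues with multiplicities (only used at `p`-elements) -/
  E : S → Multiset K
  conj : ∀ g x : S, IsP p x → E (g * x * g⁻¹) = E x
  lin : ∀ P : Sylow p S, ∃ (n : ℕ) (l : Fin n → ((P : Subgroup S) →* Kˣ)),
    ∀ x : (P : Subgroup S), E x = (Finset.univ : Finset (Fin n)).val.map fun i => (l i x : K)
  frob : ∀ x : S, IsP p x → ((E x).map fun a => a ^ r ^ f) = E x

/-- the element `y` : `ω` of order `p ^ (m + 1)`, the exact power of `p` in `q ^ e - 1`, `q = r ^ f`, `e` the order of `q`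
modulo `p`.  The number of eigenvalues `ω ^ k`, `k ≡ r₀ mod p ^ m` is not divisible by `p` (or the second criterion). -/
def EY {p r f : ℕ} {S : Type u} [Group S] {K : Type v} [Field K] (E : ED p r f S K) : Prop :=
  p ∣ f → ∀ (e m : ℕ) (ω : K), 0 < e → orderOf ((r ^ f : ℕ) : ZMod p) = e → 1 ≤ m →
    p ^ (m + 1) ∣ (r ^ f) ^ e - 1 → ¬ p ^ (m + 2) ∣ (r ^ f) ^ e - 1 → IsPrimitiveRoot ω (p ^ (m + 1)) →
    ∃ (y : S) (s : Multiset ℕ) (r₀ : ℕ), IsP p y ∧ E.E y = s.map (fun k => ω ^ k) ∧ ¬ p ∣ r₀ ∧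
      (¬ p ∣ (s.filter fun k => k % p ^ m = r₀ % p ^ m).card ∨
        (5 ≤ p ∧ ¬ p ∣ ((s.filter fun k => k % p ^ m = r₀ % p ^ m).map fun k => k % p ^ (m + 1) / p ^ m).sum))

end Cfsg.Agent.H37.HT
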