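import Cfsg.Agent.H37.HT.Moved

/-!
# S4933, part (O): the group theory (helper37)

`exists_moved` : in an almost simple group `A` with socle `N` (abelian Sylow `p`-subgroup), `P ≰ N`, with `FD`-data and the test,
some `ψ` of `p'`-degree in the principal block of `N` is moved by every conjugate of `P`; `P / (P ⊓ N)` is cyclic and
`P ⊓ N` is self-centralizing in `P`.
-/

set_option autoImplicit false
set_option linter.unusedSectionVars false

open Cfsg Cfsg.Agent.Characters.Core Subgroup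
open scoped Pointwise

namespace Cfsg.Agent.H37.HT

universe u v

/-! ### powers -/

section pow

variable {N : Type u} [Group N] {p r f : ℕ}

/-- `r ^ i` acts trivially on `F` -/
def Ze (D : FD p r f N) (i : ℕ) : Prop := ∀ x : N, IsP p x → D.F (x ^ r ^ i) = D.F x

theorem isP_pow {x : N} (h : IsP p x) (k : ℕ) : IsP p (x ^ k) := by
  obtain ⟨j, hj⟩ := h
  exact ⟨j, by rw [← pow_mul, mul_comm, pow_mul, hj, one_pow]⟩

theorem Ze.add {D : FD p r f N} {i j : ℕ} (hi : Ze D i) (hj : Ze D j) : Ze D (i + j) := by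
  intro x hx
  rw [pow_add, pow_mul, hj _ (isP_pow hx _), hi x hx]

theorem Ze.of_add {D : FD p r f N} {i j : ℕ} (hi : Ze D i) (hj : Ze D (i + j)) : Ze D j := by
  intro x hx
  have h1 := hi (x ^ r ^ j) (isP_pow hx _)
  have h2 := hj x hx
  rw [← h1, ← pow_mul, ← pow_add, add_comm j i, h2]

theorem Ze.zero (D : FD p r f N) : Ze D 0 := fun x _ => by rw [pow_zero, pow_one]

theorem Ze.mul {D : FD p r f N} {i : ℕ} (hi : Ze D i) (k : ℕ) : Ze D (i * k) := by
  induction k with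
  | zero => exact Ze.zero D
  | succ k ih => rw [Nat.mul_succ]; exact ih.add hi

/-- the order of `r` -/
theorem exists_ord (D : FD p r f N) (hf : 0 < f) : ∃ o : ℕ, 0 < o ∧ o ∣ f ∧ ∀ i, Ze D i ↔ o ∣ i := by
  classical
  have h0 : ∃ o, 0 < o ∧ Ze D o := ⟨f, hf, D.frob⟩
  refine ⟨Nat.find h0, (Nat.find_spec h0).1, ?_, ?_⟩
  · have key : ∀ i, Ze D i → Nat.find h0 ∣ i := by
      intro i hi
      have h1 : Ze D (i % Nat.find h0) := by
        have h2 : Ze D (Nat.find h0 * (i / Nat.find h0)) := (Nat.find_spec h0).2.mul _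
        exact Ze.of_add h2 (by rwa [Nat.div_add_mod])
      by_contra hne
      have h3 : 0 < i % Nat.find h0 := Nat.pos_of_ne_zero fun h => hne (Nat.dvd_of_mod_eq_zero h)
      exact Nat.find_min h0 (Nat.mod_lt _ (Nat.find_spec h0).1) ⟨h3, h1⟩
    exact key f D.frob
  · intro i
    constructor
    · intro hi
      have h1 : Ze D (i % Nat.find h0) := by
        have h2 : Ze D (Nat.find h0 * (i / Nat.find h0)) := (Nat.find_spec h0).2.mul _
        exact Ze.of_add h2 (by rwa [Nat.div_add_mod])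
      by_contra hne
      have h3 : 0 < i % Nat.find h0 := Nat.pos_of_ne_zero fun h => hne (Nat.dvd_of_mod_eq_zero h)
      exact Nat.find_min h0 (Nat.mod_lt _ (Nat.find_spec h0).1) ⟨h3, h1⟩
    · rintro ⟨k, rfl⟩
      exact (Nat.find_spec h0).2.mul k

theorem modEq_of_eq {D : FD p r f N} {o : ℕ} (ho : 0 < o) (hZ : ∀ i, Ze D i ↔ o ∣ i) {a b : ℕ}
    (h : ∀ x : N, IsP p x → D.F (x ^ r ^ a) = D.F (x ^ r ^ b)) : (a : ZMod o) = b := by
  -- c with o ∣ a + c
  obtain ⟨c, hc⟩ : ∃ c, o ∣ a + c := ⟨o * a - a, by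
    have : a ≤ o * a := Nat.le_mul_of_pos_left a ho
    rw [Nat.add_sub_cancel' this]; exact dvd_mul_right o a⟩
  have h1 : Ze D (a + c) := (hZ _).2 hc
  have h2 : Ze D (b + c) := by
    intro x hx
    have h3 := h (x ^ r ^ c) (isP_pow hx _)
    rw [← pow_mul, ← pow_add, ← pow_mul, ← pow_add, add_comm c a, add_comm c b] at h3
    rw [← h3, h1 x hx]
  have h4 := (hZ _).1 h2
  have h5 : ((a + c : ℕ) : ZMod o) = ((b + c : ℕ) : ZMod o) := by
    rw [(ZMod.natCast_eq_zero_iff _ _).2 hc, (ZMod.natCast_eq_zero_iff _ _).2 h4]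
  push_cast at h5
  exact add_right_cancel h5

end pow

/-! ### the almost simple group -/

section alm

variable {A : Type u} [Group A] [Finite A] {p r f : ℕ} [Fact p.Prime]

/-- a Sylow subgroup meets a normal subgroup in a Sylow subgroup (cf. helper132) -/
theorem exists_sylow_subgroupOf (Q : Sylow p A) (N : Subgroup A) [N.Normal] :
    ∃ R : Sylow p N, (R : Subgroup N) = (Q : Subgroup A).subgroupOf N := by
  have h1 : IsPGroup p ((Q : Subgroup A).subgroupOf N) := Q.2.comap_of_injective N.subtype N.subtype_injective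
  have h2 : ((Q : Subgroup A).subgroupOf N).index ∣ (Q : Subgroup A).index := by
    change (Q : Subgroup A).relIndex N ∣ _
    have e1 : ((Q : Subgroup A) ⊓ N).relIndex Q * (Q : Subgroup A).index = ((Q : Subgroup A) ⊓ N).index :=
      relIndex_mul_index inf_le_left
    have e2 : ((Q : Subgroup A) ⊓ N).relIndex N * N.index = ((Q : Subgroup A) ⊓ N).index :=
      relIndex_mul_index inf_le_right
    rw [inf_relIndex_left] at e1
    rw [inf_relIndex_right] at e2
    obtain ⟨m, hm⟩ := relIndex_dvd_index_of_normal (H := N) (K := (Q : Subgroup A))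
    refine ⟨m, ?_⟩
    have h0 : 0 < N.relIndex (Q : Subgroup A) := Nat.pos_of_ne_zero (by
      rw [relIndex]; exact index_ne_zero_of_finite)
    apply Nat.eq_of_mul_eq_mul_left h0
    rw [e1, ← e2, hm]
    ring
  have h3 : ¬ p ∣ ((Q : Subgroup A).subgroupOf N).index := fun h => Q.not_dvd_index (h.trans h2)
  exact ⟨h1.toSylow h3, rfl⟩

/-- every `p`-element of `N` is conjugate in `N` to an element of `P` -/
theorem exists_conj_mem (P : Sylow p A) (N : Subgroup A) [N.Normal] {y : N} (hy : IsP p y) :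
    ∃ n z : N, (z : A) ∈ (P : Subgroup A) ∧ y = n * z * n⁻¹ := by
  obtain ⟨R, hR⟩ := exists_sylow_subgroupOf P N
  have hyp : IsPGroup p (Subgroup.zpowers y) := by
    intro w
    obtain ⟨k, hk⟩ := hy
    obtain ⟨m, hm⟩ := Subgroup.mem_zpowers_iff.1 w.2
    refine ⟨k, Subtype.ext ?_⟩
    show (w : N) ^ p ^ k = 1
    rw [← hm, ← zpow_natCast, ← zpow_mul, mul_comm, zpow_mul, zpow_natCast, hk, one_zpow]
  obtain ⟨Q, hQ⟩ := hyp.exists_le_sylow
  obtain ⟨g, hg⟩ := MulAction.exists_smul_eq N Q R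
  have h1 : g * y * g⁻¹ ∈ (R : Subgroup N) := by
    rw [← hg]
    exact Subgroup.smul_mem_pointwise_smul _ (MulAut.conj g) _ (hQ (Subgroup.mem_zpowers y))
  rw [hR, Subgroup.mem_subgroupOf] at h1
  exact ⟨g⁻¹, g * y * g⁻¹, h1, by group⟩

theorem exists_pow_inv {N : Type u} [Group N] {x z : N} (hx : IsP p x) (hz : IsP p z) {κ : ℕ} (hκ : ¬ p ∣ κ) :
    ∃ k : ℕ, x ^ (k * κ) = x ∧ z ^ (k * κ) = z := by
  obtain ⟨a, ha⟩ := hx
  obtain ⟨b, hb⟩ := hz
  have hcop : Nat.Coprime κ (p ^ (a + b)) :=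
    Nat.Coprime.pow_right _ ((Nat.Prime.coprime_iff_not_dvd Fact.out).2 hκ).symm
  obtain ⟨k, hk⟩ : ∃ k : ℕ, k * κ ≡ 1 [MOD p ^ (a + b)] := by
    have : NeZero (p ^ (a + b)) := ⟨pow_ne_zero _ (Fact.out : p.Prime).ne_zero⟩
    refine ⟨((κ : ZMod (p ^ (a + b)))⁻¹).val, ?_⟩
    rw [← ZMod.natCast_eq_natCast_iff]
    push_cast
    rw [ZMod.natCast_zmod_val, mul_comm]
    exact ZMod.coe_mul_inv_eq_one κ hcop
  have key : ∀ w : N, w ^ p ^ (a + b) = 1 → w ^ (k * κ) = w := by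
    intro w hw
    have h1 := (pow_eq_pow_iff_modEq (x := w)).2 (hk.of_dvd (orderOf_dvd_of_pow_eq_one hw))
    rwa [pow_one] at h1
  refine ⟨k, key x ?_, key z ?_⟩
  · rw [pow_add, pow_mul, ha, one_pow]
  · rw [pow_add, mul_comm, pow_mul, hb, one_pow]

/-- in a cyclic group a nontrivial `p`-subgroup contains all the elements of order dividing `p` -/
theorem mem_of_pow_eq_one {C : Type*} [Group C] [Finite C] [IsCyclic C] (H : Subgroup C) (hH : p ∣ Nat.card H) {z : C}
    (hz : z ^ p = 1) : z ∈ H := by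
  classical
  have : Fintype C := Fintype.ofFinite C
  obtain ⟨h, hh⟩ := exists_prime_orderOf_dvd_card' (G := H) p hH
  have h1 : orderOf (h : C) = p := by rw [Subgroup.orderOf_coe, hh]
  have h2 := IsCyclic.card_pow_eq_one_le (α := C) (n := p) (Fact.out : p.Prime).pos
  have h3 : (Subgroup.zpowers (h : C) : Set C).toFinset ⊆ Finset.univ.filter (fun a : C => a ^ p = 1) := by
    intro w hw
    rw [Set.mem_toFinset] at hw
    obtain ⟨m, hm⟩ := Subgroup.mem_zpowers_iff.1 hw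
    rw [Finset.mem_filter]
    refine ⟨Finset.mem_univ _, ?_⟩
    rw [← hm, ← zpow_natCast, ← zpow_mul, mul_comm, zpow_mul, zpow_natCast, ← h1, pow_orderOf_eq_one, one_zpow]
  have h4 : (Subgroup.zpowers (h : C) : Set C).toFinset.card = p := by
    rw [Set.toFinset_card, ← h1, ← Nat.card_zpowers, Nat.card_eq_fintype_card]
    rfl
  have h5 := Finset.eq_of_subset_of_card_le h3 (by rw [h4]; exact h2)
  have h6 : z ∈ (Subgroup.zpowers (h : C) : Set C).toFinset := by
    rw [h5, Finset.mem_filter]; exact ⟨Finset.mem_univ _, hz⟩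
  rw [Set.mem_toFinset] at h6
  exact (Subgroup.zpowers_le.2 h.2) h6

/-- **the moved character** -/
theorem exists_moved {M : Ideal AlgInt} (hM : IsPModular p M) (N : Subgroup A) [N.Normal] (hC : centralizer (N : Set A) = ⊥)
    (P : Sylow p A) (hPN : ¬ (P : Subgroup A) ≤ N) (hab : AbSyl p N) (hr : ¬ p ∣ r) (hf : 0 < f)
    (D : FD p r f N) (hT : Test D) (hA : D.Auts) :
    (∃ t ∈ (P : Subgroup A), ∀ x ∈ (P : Subgroup A), ∃ k : ℕ, x * t ^ k ∈ N) ∧
    (∀ x ∈ (P : Subgroup A), (∀ y ∈ (P : Subgroup A), y ∈ N → x * y = y * x) → x ∈ N) ∧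
    ∃ ψ : IrrCharacter N, ψ ∈ principalBlock M N ∧ ¬ p ∣ charDegree (ψ : N → ℂ) ∧
      ∀ g : A, ∃ x ∈ (P : Subgroup A), ∃ n n' : N, (n' : A) = (g * x * g⁻¹) * n * (g * x * g⁻¹)⁻¹ ∧
        (ψ : N → ℂ) n' ≠ (ψ : N → ℂ) n := by
  classical
  obtain ⟨hA1, hA2, hA3⟩ := hA
  set c : A →* MulAut N := MulAut.conjNormal with hc
  have hcv : ∀ (g : A) (n : N), ((c g n : N) : A) = g * n * g⁻¹ := fun g n => MulAut.conjNormal_apply g n
  -- elements of `P` are `p`-elements modulo inner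
  have hPI : ∀ g : A, ∀ t ∈ (P : Subgroup A), PInn p (c (g * t * g⁻¹)) := by
    intro g t ht
    obtain ⟨k, hk⟩ := isP_of_mem P ht
    refine ⟨k, ?_⟩
    have : (g * t * g⁻¹) ^ p ^ k = 1 := by rw [conj_pow, hk]; group
    rw [← map_pow, this, map_one]
    exact one_mem _
  have hPI' : ∀ t ∈ (P : Subgroup A), PInn p (c t) := fun t ht => by
    have := hPI 1 t ht
    simpa using this
  -- kernel
  have hker : ∀ t ∈ (P : Subgroup A), (∀ x : N, IsP p x → D.F (c t x) = D.F x) → t ∈ N := by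
    intro t ht h
    obtain ⟨n, hn⟩ := hA3 (c t) (hPI' t ht) h
    have h1 : t * (n : A)⁻¹ ∈ centralizer (N : Set A) := by
      rw [mem_centralizer_iff]
      intro m hm
      have h2 := congrArg (fun φ : MulAut N => ((φ (n⁻¹ * ⟨m, hm⟩ * n) : N) : A)) hn
      simp only [MulAut.conj_apply, hcv] at h2
      have h3 : (((n * (n⁻¹ * ⟨m, hm⟩ * n) * n⁻¹ : N)) : A) = m := by
        push_cast
        group
      rw [h3] at h2
      push_cast at h2
      -- m = t * (n⁻¹ * m * n) * t⁻¹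
      calc m * (t * (n : A)⁻¹) = (t * ((n : A)⁻¹ * m * n) * t⁻¹) * (t * (n : A)⁻¹) := by rw [← h2]
        _ = t * (n : A)⁻¹ * m := by group
    rw [hC, Subgroup.mem_bot] at h1
    have h2 : t = n := by rw [← mul_inv_eq_one]; exact h1
    rw [h2]; exact n.2
  have hkerN : ∀ t ∈ N, ∀ x : N, D.F (c t x) = D.F x := by
    intro t ht x
    have : c t x = ⟨t, ht⟩ * x * ⟨t, ht⟩⁻¹ := Subtype.ext (by rw [hcv]; rfl)
    rw [this, D.conj]
  -- the exponents
  choose! j hj using fun (t : A) (ht : t ∈ (P : Subgroup A)) => hA1 (c t) (hPI' t ht)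
  obtain ⟨o, ho, hof, hZ⟩ := exists_ord D hf
  have : NeZero o := ⟨ho.ne'⟩
  let J : (P : Subgroup A) →* Multiplicative (ZMod o) :=
    { toFun := fun t => Multiplicative.ofAdd ((j t : ℕ) : ZMod o)
      map_one' := by
        have h1 : ((j ((1 : (P : Subgroup A)) : A) : ℕ) : ZMod o) = ((0 : ℕ) : ZMod o) := by
          refine modEq_of_eq ho hZ fun x hx => ?_
          rw [← hj _ (1 : (P : Subgroup A)).2 x hx, pow_zero, pow_one, OneMemClass.coe_one, map_one]
          rfl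
        rw [h1]; simp
      map_mul' := by
        intro s t
        have h1 : ((j ((s * t : (P : Subgroup A)) : A) : ℕ) : ZMod o) = ((j s + j t : ℕ) : ZMod o) := by
          refine modEq_of_eq ho hZ fun x hx => ?_
          rw [← hj _ (s * t).2 x hx, Subgroup.coe_mul, map_mul, MulAut.mul_apply, hj _ s.2 _ (isP_aut hx _), ← map_pow,
            hj _ t.2 _ (isP_pow hx _), ← pow_mul, ← pow_add]
        rw [h1]; push_cast; rfl }
  have hJ : ∀ t : (P : Subgroup A), J t = Multiplicative.ofAdd ((j t : ℕ) : ZMod o) := fun _ => rfl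
  have hJk : ∀ t : (P : Subgroup A), J t = 1 → (t : A) ∈ N := by
    intro t ht
    refine hker t t.2 fun x hx => ?_
    rw [hj t t.2 x hx]
    have h1 : o ∣ j t := by
      rw [← ZMod.natCast_eq_zero_iff]
      exact Multiplicative.ofAdd.injective (by rw [← hJ, ht]; rfl)
    exact (hZ _).2 h1 x hx
  -- (a) cyclic
  have ha : ∃ t ∈ (P : Subgroup A), ∀ x ∈ (P : Subgroup A), ∃ k : ℕ, x * t ^ k ∈ N := by
    obtain ⟨⟨y, t, rfl⟩, hy⟩ := IsCyclic.exists_generator (α := J.range)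
    refine ⟨t, t.2, fun x hx => ?_⟩
    obtain ⟨m, hm⟩ := Subgroup.mem_zpowers_iff.1 (hy ⟨J ⟨x, hx⟩⁻¹, ⟨⟨x, hx⟩⁻¹, rfl⟩⟩)
    have h1 : J t ^ m = (J ⟨x, hx⟩)⁻¹ := by
      have := congrArg Subtype.val hm
      push_cast at this
      rw [this, map_inv]
    -- natural exponent
    obtain ⟨k, hk⟩ : ∃ k : ℕ, J t ^ k = (J ⟨x, hx⟩)⁻¹ := by
      refine ⟨(m % (orderOf (J t) : ℤ)).toNat, ?_⟩
      have h2 : (0 : ℤ) < orderOf (J t) := by exact_mod_cast orderOf_pos (J t)
      rw [← zpow_natCast, Int.toNat_of_nonneg (Int.emod_nonneg _ h2.ne'), zpow_mod_orderOf, h1]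
    refine ⟨k, ?_⟩
    have h3 : J (⟨x, hx⟩ * t ^ k) = 1 := by rw [map_mul, map_pow, hk, mul_inv_cancel]
    have h4 := hJk _ h3
    push_cast at h4
    exact h4
  -- (b) self-centralizing
  have hb : ∀ x ∈ (P : Subgroup A), (∀ y ∈ (P : Subgroup A), y ∈ N → x * y = y * x) → x ∈ N := by
    intro x hx h
    refine hker x hx fun y hy => ?_
    obtain ⟨n, z, hz, rfl⟩ := exists_conj_mem P N hy
    rw [map_mul, map_mul, map_inv, D.conj, D.conj]
    have h1 : c x z = z := by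
      apply Subtype.ext
      rw [hcv, h z hz z.2]
      group
    rw [h1]
  refine ⟨ha, hb, ?_⟩
  -- (c) the element t₁
  obtain ⟨t0, ht0, ht0N⟩ : ∃ t ∈ (P : Subgroup A), t ∉ N := by
    by_contra h
    push Not at h
    exact hPN h
  have hJ0 : J ⟨t0, ht0⟩ ≠ 1 := fun h => ht0N (hJk _ h)
  have hrange : p ∣ Nat.card J.range := by
    have h1 : IsPGroup p J.range := by
      exact IsPGroup.of_surjective P.isPGroup' J.rangeRestrict J.rangeRestrict_surjective
    obtain ⟨k, hk⟩ := IsPGroup.iff_card.1 h1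
    rcases Nat.eq_zero_or_pos k with rfl | hk0
    · exfalso
      rw [pow_zero] at hk
      have h2 : J.range = ⊥ := Subgroup.eq_bot_of_card_eq _ hk
      apply hJ0
      have h3 : J ⟨t0, ht0⟩ ∈ J.range := ⟨_, rfl⟩
      rw [h2, Subgroup.mem_bot] at h3
      exact h3
    · rw [hk]; exact dvd_pow_self p hk0.ne'
  have hpo : p ∣ o := by
    have h1 := Subgroup.card_subgroup_dvd_card J.range
    have h2 : Nat.card (Multiplicative (ZMod o)) = o := by
      rw [Nat.card_congr Multiplicative.toAdd, Nat.card_zmod]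
    rw [h2] at h1
    exact hrange.trans h1
  have hpf : p ∣ f := hpo.trans hof
  obtain ⟨y, hy, hyc⟩ := hT hpf
  have hzp : (Multiplicative.ofAdd ((f / p : ℕ) : ZMod o)) ^ p = 1 := by
    rw [← ofAdd_nsmul, nsmul_eq_mul, ← Nat.cast_mul, Nat.mul_div_cancel' hpf, (ZMod.natCast_eq_zero_iff _ _).2 hof]
    rfl
  obtain ⟨t1, ht1⟩ := mem_of_pow_eq_one J.range hrange hzp
  have ht1F : ∀ x : N, IsP p x → D.F (c t1 x) = D.F (x ^ r ^ (f / p)) := by
    intro x hx
    rw [hj t1 t1.2 x hx]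
    have h1 : ((j t1 : ℕ) : ZMod o) = ((f / p : ℕ) : ZMod o) := Multiplicative.ofAdd.injective (by rw [← hJ, ht1])
    -- c with o ∣ j + c
    obtain ⟨e, he⟩ : ∃ e, o ∣ f / p + e := ⟨o * (f / p) - f / p, by
      have : f / p ≤ o * (f / p) := Nat.le_mul_of_pos_left _ ho
      rw [Nat.add_sub_cancel' this]; exact dvd_mul_right o _⟩
    have he' : o ∣ j t1 + e := by
      rw [← ZMod.natCast_eq_zero_iff]
      push_cast
      rw [h1]
      have := (ZMod.natCast_eq_zero_iff _ _).2 he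
      push_cast at this
      exact this
    -- compare through `x ^ r ^ (j + e + f/p)`
    have h2 := (hZ _).2 he' (x ^ r ^ (f / p)) (isP_pow hx _)
    have h3 := (hZ _).2 he (x ^ r ^ j t1) (isP_pow hx _)
    rw [← h2, ← h3, ← pow_mul, ← pow_mul, ← pow_add, ← pow_add]
    congr 2
    congr 1
    ring
  -- the character
  have hnot : ¬ ∀ ψ : IrrCharacter N, ψ ∈ principalBlock M N → ¬ p ∣ charDegree (ψ : N → ℂ) →
      ∃ d : MulAut N, (∀ x : N, IsP p x → D.F (d x) = D.F x) ∧ ∀ x : N, (ψ : N → ℂ) (c t1 x) = (ψ : N → ℂ) (d x) := by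
    intro h
    apply hyc
    rw [← ht1F y hy]
    exact cong_of_inv hM hab D (c t1) h hy
  push Not at hnot
  obtain ⟨ψ, hψ1, hψ2, hψ3⟩ := hnot
  refine ⟨ψ, hψ1, hψ2, fun g => ?_⟩
  by_contra hcon
  push Not at hcon
  -- ψ is invariant under s = c (g t₁ g⁻¹)
  set s : MulAut N := c (g * t1 * g⁻¹) with hs
  have hinv : ∀ n : N, (ψ : N → ℂ) (s n) = (ψ : N → ℂ) n := by
    intro n
    exact hcon t1 t1.2 n (s n) (by rw [hs, hcv])
  have hinv' : ∀ n : N, (ψ : N → ℂ) (s⁻¹ n) = (ψ : N → ℂ) n := by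
    intro n
    rw [← hinv (s⁻¹ n), MulAut.apply_inv_self]
  have hsF : ∀ w : N, IsP p w → D.F (s w) = D.F (c t1 w) := by
    intro w hw
    rw [← hA2 (c g) (c t1) (hPI' t1 t1.2) w hw, hs, map_mul, map_mul, map_inv]
    rfl
  obtain ⟨x, hx⟩ := hψ3 (s⁻¹ * c t1) (by
    intro x hx
    set z : N := (s⁻¹ * c t1) x with hz
    have hzP : IsP p z := isP_aut hx _
    have hsz : s z = c t1 x := by
      rw [hz, MulAut.mul_apply, MulAut.apply_inv_self]
    have hκ : ¬ p ∣ r ^ (f / p) := fun h => hr ((Fact.out : p.Prime).dvd_of_dvd_pow h)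
    obtain ⟨k, hk1, hk2⟩ := exists_pow_inv hx hzP hκ
    have h1 : D.F ((z ^ k) ^ r ^ (f / p)) = D.F ((x ^ k) ^ r ^ (f / p)) := by
      rw [← ht1F _ (isP_pow hzP k), ← ht1F _ (isP_pow hx k), ← hsF _ (isP_pow hzP k), map_pow, hsz, map_pow]
    rw [← pow_mul, ← pow_mul, hk1, hk2] at h1
    exact h1)
  apply hx
  rw [MulAut.mul_apply, hinv']

end alm

end Cfsg.Agent.H37.HT
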