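import Cfsg.Agent.H37.HT.Fd
import Mathlib.GroupTheory.Sylow
import Mathlib.Tactic

/-!
# S4933, part (O): transport of the data along an isomorphism (helper37)
-/

set_option autoImplicit false
set_option linter.unusedSectionVars false

open Cfsg Subgroup

namespace Cfsg.Agent.H37.HT

universe u v

variable {N : Type u} {S : Type v} [Group N] [Group S] {p r f : ℕ}

theorem isP_equiv (e : N ≃* S) {x : N} : IsP p (e x) ↔ IsP p x := by
  constructor
  · rintro ⟨k, hk⟩
    exact ⟨k, e.injective (by rw [map_pow, hk, map_one])⟩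
  · rintro ⟨k, hk⟩
    exact ⟨k, by rw [← map_pow, hk, map_one]⟩

/-- the image of a Sylow subgroup -/
def sylEquiv (e : N ≃* S) (P : Sylow p N) : Sylow p S where
  toSubgroup := (P : Subgroup N).map e.toMonoidHom
  isPGroup' := P.2.map _
  is_maximal' := by
    intro Q hQ hle
    have h1 : IsPGroup p (Q.comap e.toMonoidHom) := hQ.comap_of_injective _ e.injective
    have h2 : (P : Subgroup N) ≤ Q.comap e.toMonoidHom := Subgroup.map_le_iff_le_comap.1 hle
    have h3 := P.3 h1 h2
    rw [← h3, Subgroup.map_comap_eq_self_of_surjective e.surjective]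

theorem mem_sylEquiv (e : N ≃* S) (P : Sylow p N) {x : N} (hx : x ∈ (P : Subgroup N)) :
    e x ∈ (sylEquiv e P : Subgroup S) := ⟨x, hx, rfl⟩

theorem AbSyl.congr (e : N ≃* S) (h : AbSyl p S) : AbSyl p N := by
  intro P x hx y hy
  apply e.injective
  rw [map_mul, map_mul]
  exact h (sylEquiv e P) _ (mem_sylEquiv e P hx) _ (mem_sylEquiv e P hy)

/-- transport of `FD` -/
def FD.comap (e : N ≃* S) (D : FD p r f S) : FD p r f N where
  F := fun x => D.F (e x)
  conj := fun g x => by rw [map_mul, map_mul, map_inv, D.conj]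
  lin := fun P => by
    obtain ⟨n, l, hl⟩ := D.lin (sylEquiv e P)
    refine ⟨n, fun i => (l i).comp
      { toFun := fun x => ⟨e x, mem_sylEquiv e P x.2⟩
        map_one' := Subtype.ext (map_one e)
        map_mul' := fun a b => Subtype.ext (map_mul e _ _) }, fun x => ?_⟩
    exact hl ⟨e x, mem_sylEquiv e P x.2⟩
  frob := fun x hx => by rw [map_pow]; exact D.frob _ ((isP_equiv e).2 hx)

theorem Test.comap (e : N ≃* S) {D : FD p r f S} (h : Test D) : Test (D.comap e) := by
  intro hpf
  obtain ⟨y, hy, hyc⟩ := h hpf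
  refine ⟨e.symm y, ?_, ?_⟩
  · rw [← isP_equiv e, e.apply_symm_apply]; exact hy
  · show ¬ Cong p (D.F (e ((e.symm y) ^ r ^ (f / p)))) (D.F (e (e.symm y)))
    rw [map_pow, e.apply_symm_apply]; exact hyc

/-- transport of automorphisms -/
def autE (e : N ≃* S) : MulAut N ≃* MulAut S := MulAut.congr e

theorem autE_apply (e : N ≃* S) (t : MulAut N) (x : N) : autE e t (e x) = e (t x) := by
  show e (t (e.symm (e x))) = e (t x)
  rw [e.symm_apply_apply]

theorem autE_inn (e : N ≃* S) (t : MulAut N) : autE e t ∈ Inn S ↔ t ∈ Inn N := by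
  constructor
  · rintro ⟨s, hs⟩
    refine ⟨e.symm s, ?_⟩
    apply (autE e).injective
    rw [← hs]
    refine MulEquiv.ext fun x => ?_
    obtain ⟨x, rfl⟩ := e.surjective x
    rw [autE_apply]
    simp [MulAut.conj_apply]
  · rintro ⟨n, hn⟩
    refine ⟨e n, ?_⟩
    rw [← hn]
    refine MulEquiv.ext fun x => ?_
    obtain ⟨x, rfl⟩ := e.surjective x
    rw [autE_apply]
    simp [MulAut.conj_apply]

theorem pInn_autE (e : N ≃* S) (t : MulAut N) (h : PInn p t) : PInn p (autE e t) := by
  obtain ⟨k, hk⟩ := h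
  refine ⟨k, ?_⟩
  rw [← map_pow]
  exact (autE_inn e _).2 hk

theorem FD.Auts.comap (e : N ≃* S) {D : FD p r f S} (h : D.Auts) : (D.comap e).Auts := by
  obtain ⟨h1, h2, h3⟩ := h
  refine ⟨fun t ht => ?_, fun g t ht x hx => ?_, fun t ht hx => ?_⟩
  · obtain ⟨j, hj⟩ := h1 (autE e t) (pInn_autE e t ht)
    refine ⟨j, fun x hx => ?_⟩
    have := hj (e x) ((isP_equiv e).2 hx)
    rw [autE_apply] at this
    show D.F (e (t x)) = D.F (e (x ^ r ^ j))
    rw [this, map_pow]
  · have := h2 (autE e g) (autE e t) (pInn_autE e t ht) (e x) ((isP_equiv e).2 hx)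
    rw [← map_inv, autE_apply, autE_apply, autE_apply, autE_apply] at this
    exact this
  · rw [← autE_inn e]
    refine h3 _ (pInn_autE e t ht) fun x hx' => ?_
    obtain ⟨x, rfl⟩ := e.surjective x
    rw [autE_apply]
    exact hx x ((isP_equiv e).1 hx')

end Cfsg.Agent.H37.HT
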